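/-
A standard subgroup which is a double cover with only inner automorphisms and whose centralizer has cyclic Sylow
2-subgroups: the local structure at the central involution.
-/
import Mathlib.GroupTheory.Sylow
import Mathlib.GroupTheory.IndexNormal
import Cfsg.Prelude.Def_Local
import Cfsg.Prelude.Def_KGroupFacts
import Cfsg.Agent.Lib.Fusion.IsolatedInvolution
import Cfsg.Agent.Lib.Fusion.Cores
import Cfsg.Agent.S0215

set_option autoImplicit false

namespace Cfsg.Agent.Spor.DoubleCoverStandard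

open Cfsg
open scoped Pointwise

variable {K : Type*} [Group K]

/-- a central involution which is the only nontrivial central element -/
structure Centre (n : K) : Prop where
  ne : n ≠ 1
  sq : n * n = 1
  mem : n ∈ Subgroup.center K
  two : ∀ a ∈ Subgroup.center K, a = 1 ∨ a = n

/-- automorphisms of a perfect central extension of a group with only inner automorphisms are inner -/
theorem aut_inner_of {Q : Type*} [Group Q] (hP : Group.IsPerfect K) (π : K →* Q) (hπ : Function.Surjective π)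
    (hker : π.ker = Subgroup.center K) (hQ : ∀ ψ : Q ≃* Q, ∃ q, ∀ x, ψ x = q * x * q⁻¹) (φ : K ≃* K) :
    ∃ a : K, ∀ x, φ x = a * x * a⁻¹ := by
  have hcen : ∀ x, φ x ∈ Subgroup.center K ↔ x ∈ Subgroup.center K := fun x => by
    simp only [Subgroup.mem_center_iff]
    constructor
    · intro h g
      refine φ.injective ?_
      rw [map_mul, map_mul, h]
    · intro h g
      obtain ⟨g', rfl⟩ := φ.surjective g
      rw [← map_mul, ← map_mul, h]
  have hk : π.ker = (π.comp φ.toMonoidHom).ker := by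
    ext x
    show x ∈ π.ker ↔ φ x ∈ π.ker
    rw [hker, hcen x]
  let ψ : Q ≃* Q := ((QuotientGroup.quotientKerEquivOfSurjective π hπ).symm.trans
    (QuotientGroup.quotientMulEquivOfEq hk)).trans
      (QuotientGroup.quotientKerEquivOfSurjective (π.comp φ.toMonoidHom) (hπ.comp φ.surjective))
  have hψ : ∀ x, ψ (π x) = π (φ x) := fun x => by
    have e : (QuotientGroup.quotientKerEquivOfSurjective π hπ).symm (π x) = QuotientGroup.mk x :=
      (MulEquiv.symm_apply_eq _).2 rfl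
    simp only [ψ, MulEquiv.trans_apply, e]
    rfl
  obtain ⟨q, hq⟩ := hQ ψ
  obtain ⟨a, rfl⟩ := hπ q
  refine ⟨a, ?_⟩
  have hdiff : ∀ x, (a * x * a⁻¹)⁻¹ * φ x ∈ Subgroup.center K := fun x => by
    rw [← hker, MonoidHom.mem_ker, map_mul, map_inv, map_mul, map_mul, map_inv, ← hψ, hq, inv_mul_cancel]
  let χ : K →* ↥(Subgroup.center K) := MonoidHom.mk' (fun x => ⟨_, hdiff x⟩) fun x y => by
    refine Subtype.ext ?_
    have hc := Subgroup.mem_center_iff.1 (hdiff x)
    show (a * (x * y) * a⁻¹)⁻¹ * φ (x * y) = (a * x * a⁻¹)⁻¹ * φ x * ((a * y * a⁻¹)⁻¹ * φ y)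
    calc (a * (x * y) * a⁻¹)⁻¹ * φ (x * y)
        = (a * y * a⁻¹)⁻¹ * ((a * x * a⁻¹)⁻¹ * φ x) * φ y := by rw [map_mul]; group
      _ = (a * x * a⁻¹)⁻¹ * φ x * (a * y * a⁻¹)⁻¹ * φ y := by rw [hc]
      _ = _ := by group
  have hχ : ∀ x, χ x = 1 := by
    intro x
    have hle : commutator K ≤ χ.ker := by
      rw [commutator_def, Subgroup.commutator_le]
      intro u _ v _
      rw [MonoidHom.mem_ker, map_commutatorElement]
      refine commutatorElement_eq_one_iff_mul_comm.2 (Subtype.ext ?_)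
      exact (Subgroup.mem_center_iff.1 (χ u).2 _).symm
    exact hle (hP.commutator_eq_top ▸ Subgroup.mem_top x)
  intro x
  exact (inv_mul_eq_one.1 (congrArg Subtype.val (hχ x))).symm

/-- the situation at the central involution of a component which is a double cover -/
structure Comp (n : K) (G : Type*) [Group G] where
  centre : Centre n
  /-- the embedding -/
  emb : K →* G
  emb_inj : Function.Injective emb
  split : ∀ g : G, Commute g (emb n) →
    ∃ a : K, ∃ c ∈ Subgroup.centralizer (Set.range emb), g = emb a * c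
  /-- generator of a Sylow 2-subgroup of the centralizer -/
  gen : G
  /-- its order is 2 to the power rk + 1 -/
  rk : ℕ
  gen_mem : gen ∈ Subgroup.centralizer (Set.range emb)
  gen_pow : gen ^ (2 ^ rk) = emb n
  two_elem : ∀ x ∈ Subgroup.centralizer (Set.range emb), ∀ m : ℕ, x ^ (2 ^ m) = 1 →
    ∃ h ∈ Subgroup.centralizer (Set.range emb), ∃ i : ℕ, x = h * gen ^ i * h⁻¹
  gen_odd : ¬ 2 ∣ ((Subgroup.zpowers gen).subgroupOf (Subgroup.centralizer (Set.range emb))).index

theorem exists_comp {G : Type*} [Group G] [Finite G] (A : Subgroup G) (hA : Cfsg.IsStandardSubgroup A)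
    {n : K} (hcn : Centre n) (hauto : ∀ φ : K ≃* K, ∃ a : K, ∀ x, φ x = a * x * a⁻¹) (e : ↥A ≃* K)
    (hR : ∀ R : Sylow 2 ↥(Subgroup.centralizer (A : Set G)),
      IsCyclic ↥(R : Subgroup ↥(Subgroup.centralizer (A : Set G)))) :
    ∃ S : Comp n G, S.emb.range = A ∧ ∀ g : G, Commute g (S.emb n) → g ∈ Subgroup.normalizer (A : Set G) := by
  have : Fact (Nat.Prime 2) := ⟨Nat.prime_two⟩
  obtain ⟨-, ⟨-, hte⟩, -, hnorm⟩ := hA
  set ι : K →* G := A.subtype.comp e.symm.toMonoidHom with hι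
  have hinj : Function.Injective ι := A.subtype_injective.comp e.symm.injective
  have hrange : ι.range = A := by
    rw [hι, MonoidHom.range_comp, MonoidHom.range_eq_top.2 e.symm.surjective, ← MonoidHom.range_eq_map,
      Subgroup.range_subtype]
  have hset : Set.range ι = (A : Set G) := by rw [← hrange, MonoidHom.coe_range]
  set C := Subgroup.centralizer (A : Set G) with hC
  set z := ι n with hz
  have hzz : z * z = 1 := by rw [hz, ← map_mul, hcn.sq, map_one]
  have hz1 : z ≠ 1 := fun h => hcn.ne (hinj (by rw [map_one]; exact h))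
  have hzo : orderOf z = 2 := orderOf_eq_prime (by rw [sq, hzz]) hz1
  have hzC : z ∈ C := by
    rw [hC, ← hset, Subgroup.mem_centralizer_iff]
    rintro _ ⟨y, rfl⟩
    rw [hz, ← map_mul, ← map_mul, Subgroup.mem_center_iff.1 hcn.mem y]
  have hzA : z ∈ A := hrange ▸ ⟨n, rfl⟩
  have hnz : ∀ g : G, Commute g z → g ∈ Subgroup.normalizer (A : Set G) := by
    intro g hg
    rw [hnorm]
    by_contra hne
    have hev : 2 ∣ Nat.card ↥(C ⊓ C.map (MulAut.conj g).toMonoidHom) := by
      refine hzo ▸ Subgroup.orderOf_dvd_natCard _ ⟨hzC, z, hzC, ?_⟩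
      show g * z * g⁻¹ = z
      rw [hg.eq, mul_inv_cancel_right]
    exact (Nat.not_even_iff_odd.2 (hte g hne)) (even_iff_two_dvd.2 hev)
  -- splitting
  have hsplit : ∀ g : G, Commute g z → ∃ a : K, ∃ c ∈ C, g = ι a * c := by
    intro g hg
    have hgN := hnz g hg
    let φ : K ≃* K := (e.symm.trans (A.normalizerMonoidHom ⟨g, hgN⟩)).trans e
    obtain ⟨a, ha⟩ := hauto φ
    have hφ : ∀ x, ι (φ x) = g * ι x * g⁻¹ := fun x => by
      show ((e.symm (e _) : ↥A) : G) = _
      rw [e.symm_apply_apply]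
      rfl
    refine ⟨a, (ι a)⁻¹ * g, ?_, by group⟩
    rw [hC, ← hset, Subgroup.mem_centralizer_iff]
    rintro _ ⟨x, rfl⟩
    have h := hφ x
    rw [ha, map_mul, map_mul, map_inv] at h
    have h2 : g * ι x = ι a * ι x * (ι a)⁻¹ * g := by rw [h, inv_mul_cancel_right]
    rw [mul_assoc _ g, h2]
    group
  -- the Sylow subgroup
  obtain ⟨R⟩ : Nonempty (Sylow 2 ↥C) := inferInstance
  obtain ⟨r, hr⟩ := (hR R).exists_generator
  have helem : ∀ x : ↥C, ∀ m : ℕ, x ^ (2 ^ m) = 1 → ∃ h : ↥C, ∃ i : ℕ, x = h * (r : ↥C) ^ i * h⁻¹ := by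
    intro x m hx
    obtain ⟨k, -, hk⟩ := (Nat.dvd_prime_pow Nat.prime_two).1 (orderOf_dvd_of_pow_eq_one hx)
    obtain ⟨P, hxP⟩ := (IsPGroup.of_card (n := k)
      (by rw [Nat.card_zpowers, hk]) : IsPGroup 2 ↥(Subgroup.zpowers x)).exists_le_sylow
    obtain ⟨h, hh⟩ := MulAction.exists_smul_eq ↥C R P
    have hx' : x ∈ ((h • R : Sylow 2 ↥C) : Subgroup ↥C) := hh ▸ hxP (Subgroup.mem_zpowers x)
    rw [Sylow.coe_subgroup_smul, Subgroup.mem_pointwise_smul_iff_inv_smul_mem] at hx'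
    obtain ⟨i, hi⟩ := (mem_powers_iff_mem_zpowers (G := ↥(R : Subgroup ↥C)) (x := r)).2
      (hr ⟨_, hx'⟩)
    refine ⟨h, i, ?_⟩
    have hi' : (r : ↥C) ^ i = h⁻¹ * x * h := by
      have := congrArg Subtype.val hi
      simpa [MulAut.smul_def, mul_assoc] using this
    rw [hi']; group
  set zc : ↥C := ⟨z, hzC⟩ with hzc
  have hzcen : ∀ h : ↥C, h * zc = zc * h := fun h =>
    Subtype.ext (Subgroup.mem_centralizer_iff.1 h.2 z hzA).symm
  obtain ⟨h0, i0, hi0⟩ := helem zc 1 (Subtype.ext (by show z ^ (2 ^ 1) = 1; rw [pow_one, sq, hzz]))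
  have hzr : (r : ↥C) ^ i0 = zc := by
    have e1 : h0 * (r : ↥C) ^ i0 = zc * h0 := by rw [hi0]; group
    rw [← hzcen h0] at e1
    exact mul_left_cancel e1
  obtain ⟨k2, hn⟩ := IsPGroup.iff_card.1 R.2
  have hord : orderOf (r : ↥C) = 2 ^ k2 := by
    rw [← hn, Subgroup.orderOf_coe, orderOf_eq_card_of_forall_mem_zpowers hr]
  have hzc2 : orderOf zc = 2 := by
    refine orderOf_eq_prime (Subtype.ext (by show z ^ 2 = 1; rw [sq, hzz])) ?_
    exact fun h => hz1 (congrArg Subtype.val h)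
  have hmod : (r : ↥C) ^ (i0 % 2 ^ k2) = zc := by rw [← hord, pow_mod_orderOf, hzr]
  obtain ⟨m, rfl⟩ : ∃ m, k2 = m + 1 := by
    refine Nat.exists_eq_succ_of_ne_zero fun h => ?_
    rw [h, pow_zero, Nat.mod_one, pow_zero] at hmod
    rw [← hmod, orderOf_one] at hzc2
    norm_num at hzc2
  have hval : i0 % 2 ^ (m + 1) = 2 ^ m := by
    have hlt := Nat.mod_lt i0 (show 2 ^ (m + 1) > 0 by positivity)
    have hdvd : 2 ^ (m + 1) ∣ i0 % 2 ^ (m + 1) * 2 := by
      rw [← hord]
      refine orderOf_dvd_of_pow_eq_one ?_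
      rw [pow_mul, hord, hmod, ← hzc2, pow_orderOf_eq_one]
    have hne : i0 % 2 ^ (m + 1) ≠ 0 := by
      intro h
      rw [h, pow_zero] at hmod
      rw [← hmod, orderOf_one] at hzc2
      norm_num at hzc2
    obtain ⟨q, hq⟩ := hdvd
    generalize i0 % 2 ^ (m + 1) = b at hlt hq hne ⊢
    rw [pow_succ] at hlt hq
    generalize 2 ^ m = a at hlt hq ⊢
    have hq2 : q < 2 := by
      by_contra hcon
      have : a * 2 * 2 ≤ a * 2 * q := Nat.mul_le_mul le_rfl (not_lt.1 hcon)
      omega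
    interval_cases q <;> omega
  rw [hval] at hmod
  refine ⟨{ centre := hcn
            emb := ι
            emb_inj := hinj
            split := fun g hg => ?_
            gen := ((r : ↥C) : G)
            rk := m
            gen_mem := ?_
            gen_pow := congrArg Subtype.val hmod
            two_elem := ?_
            gen_odd := ?_ }, hrange, hnz⟩
  · rw [hset]; exact hsplit g hg
  · rw [hset]; exact ((r : ↥C)).2
  · rw [hset]
    intro x hx k hk
    obtain ⟨h, i, hi⟩ := helem ⟨x, hx⟩ k (Subtype.ext hk)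
    refine ⟨h, h.2, i, ?_⟩
    have := congrArg Subtype.val hi
    push_cast at this
    exact this
  · rw [hset]
    have := hR R
    have e : (Subgroup.zpowers ((r : ↥C) : G)).subgroupOf C = (R : Subgroup ↥C) := by
      ext x
      rw [Subgroup.mem_subgroupOf]
      constructor
      · rintro ⟨i, hi⟩
        rw [show x = (r : ↥C) ^ i from Subtype.ext (by rw [← hi]; simp)]
        exact zpow_mem r.2 i
      · intro hx
        obtain ⟨i, hi⟩ := hr ⟨x, hx⟩
        exact ⟨i, by rw [show x = (r : ↥C) ^ i from (congrArg Subtype.val hi).symm.trans (by simp)]; simp⟩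
    rw [e]
    exact R.not_dvd_index

/-! ### inside the group -/

variable {G : Type*} [Group G] [Finite G] {n : K}

namespace Comp

/-- the centralizer of the component -/
abbrev cen (S : Comp n G) : Subgroup G := Subgroup.centralizer (Set.range S.emb)

/-- the central involution -/
noncomputable abbrev z (S : Comp n G) : G := S.emb n

/-- the image of the element is conjugate to the central involution -/
def Fused (S : Comp n G) (y : K) : Prop := ∃ g : G, g * S.z * g⁻¹ = S.emb y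

theorem comm_emb (S : Comp n G) {c : G} (hc : c ∈ S.cen) (a : K) : Commute (S.emb a) c :=
  Subgroup.mem_centralizer_iff.1 hc _ ⟨a, rfl⟩

theorem z_cen (S : Comp n G) : S.z ∈ S.cen := by
  rw [Subgroup.mem_centralizer_iff]
  rintro _ ⟨y, rfl⟩
  rw [← map_mul, ← map_mul, Subgroup.mem_center_iff.1 S.centre.mem y]

theorem z_sq (S : Comp n G) : S.z * S.z = 1 := by rw [← map_mul, S.centre.sq, map_one]

theorem z_ne (S : Comp n G) : S.z ≠ 1 := fun h => S.centre.ne (S.emb_inj (by rw [map_one]; exact h))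

theorem emb_inter (S : Comp n G) {a : K} (h : S.emb a ∈ S.cen) : a = 1 ∨ a = n := by
  refine S.centre.two _ (Subgroup.mem_center_iff.2 fun x => S.emb_inj ?_)
  rw [map_mul, map_mul]
  exact (S.comm_emb h x).eq

theorem gen_full (S : Comp n G) : S.gen ^ (2 ^ (S.rk + 1)) = 1 := by
  rw [pow_succ, pow_mul, S.gen_pow, sq]; exact S.z_sq

theorem two_bound (S : Comp n G) {x : G} (hx : x ∈ S.cen) {m : ℕ} (h : x ^ (2 ^ m) = 1) :
    x ^ (2 ^ (S.rk + 1)) = 1 := by
  obtain ⟨k, hk, i, rfl⟩ := S.two_elem x hx m h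
  rw [conj_pow, ← pow_mul, mul_comm i, pow_mul, S.gen_full, one_pow, mul_one, mul_inv_cancel]

theorem invol_cen (S : Comp n G) {x : G} (hx : x ∈ S.cen) (h : x * x = 1) : x = 1 ∨ x = S.z := by
  obtain ⟨k, hk, i, e⟩ := S.two_elem x hx 1 (by rw [pow_one, sq, h])
  have hi : (S.gen ^ i) ^ 2 = 1 := by
    have : x ^ 2 = 1 := by rw [sq, h]
    rw [e, conj_pow, conj_eq_one_iff] at this
    exact this
  have hord : orderOf S.gen = 2 ^ (S.rk + 1) := by
    have : Fact (Nat.Prime 2) := ⟨Nat.prime_two⟩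
    exact orderOf_eq_prime_pow (fun h' => S.z_ne (S.gen_pow.symm.trans h')) S.gen_full
  rw [← pow_mul] at hi
  have hd := orderOf_dvd_of_pow_eq_one hi
  rw [hord, pow_succ] at hd
  obtain ⟨q, rfl⟩ := Nat.dvd_of_mul_dvd_mul_right (by norm_num : 0 < 2) hd
  rw [pow_mul, S.gen_pow] at e
  rcases Nat.even_or_odd' q with ⟨j, rfl | rfl⟩
  · left
    rw [e, pow_mul, sq, S.z_sq, one_pow, mul_one, mul_inv_cancel]
  · right
    rw [e, pow_succ, pow_mul, sq, S.z_sq, one_pow, one_mul,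
      show k * S.z = S.z * k from (S.comm_emb hk n).symm.eq, mul_inv_cancel_right]

/-- a conjugate of the generator centralising z puts the conjugate of z into the component -/
theorem core (S : Comp n G) (g : G) (h : Commute (g * S.gen * g⁻¹) S.z) :
    ∃ y : K, g * S.z * g⁻¹ = S.emb y := by
  obtain ⟨a, c, hc, e⟩ := S.split _ h
  have hcomm : Commute (S.emb a) c := S.comm_emb hc a
  have hpow : ∀ k : ℕ, g * S.gen ^ k * g⁻¹ = S.emb (a ^ k) * c ^ k := fun k => by
    rw [← conj_pow, e, hcomm.mul_pow, map_pow]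
  have hc2 : c ^ (2 ^ (S.rk + 1)) = S.emb (a ^ (2 ^ (S.rk + 1)))⁻¹ := by
    have := hpow (2 ^ (S.rk + 1))
    rw [S.gen_full, mul_one, mul_inv_cancel] at this
    rw [map_inv]
    exact (inv_eq_of_mul_eq_one_right this.symm).symm
  have hc3 : c ^ (2 ^ (S.rk + 1 + 1)) = 1 := by
    rw [pow_succ, pow_mul, hc2]
    rcases S.emb_inter (hc2 ▸ pow_mem hc _) with h1 | h1 <;> rw [h1]
    · rw [map_one, one_pow]
    · rw [sq]; exact S.z_sq
  have hck : c ^ (2 ^ S.rk) * c ^ (2 ^ S.rk) = 1 := by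
    rw [← pow_add, ← two_mul, mul_comm 2, ← pow_succ]; exact S.two_bound hc hc3
  have hz := hpow (2 ^ S.rk)
  rw [S.gen_pow] at hz
  rcases S.invol_cen (pow_mem hc _) hck with h1 | h1
  · exact ⟨a ^ (2 ^ S.rk), by rw [hz, h1, mul_one]⟩
  · exact ⟨a ^ (2 ^ S.rk) * n, by rw [hz, h1, map_mul]⟩

/-- commuting conjugates of the central involution lie in the component -/
theorem conj_in (S : Comp n G) (g : G) (h : Commute (g * S.z * g⁻¹) S.z) :
    ∃ y : K, g * S.z * g⁻¹ = S.emb y := by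
  obtain ⟨a, c, hc, e⟩ := S.split _ h
  have hcomm : Commute (S.emb a) c := S.comm_emb hc a
  have hsq : (g * S.z * g⁻¹) * (g * S.z * g⁻¹) = 1 := by
    rw [show g * S.z * g⁻¹ * (g * S.z * g⁻¹) = g * (S.z * S.z) * g⁻¹ by group, S.z_sq, mul_one,
      mul_inv_cancel]
  have hc2 : c ^ 2 = S.emb (a ^ 2)⁻¹ := by
    rw [e, ← sq, hcomm.mul_pow, ← map_pow] at hsq
    rw [map_inv]
    exact (inv_eq_of_mul_eq_one_right hsq).symm
  have hc4 : c ^ (2 ^ 2) = 1 := by
    rw [show (2 : ℕ) ^ 2 = 2 * 2 from rfl, pow_mul, hc2]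
    rcases S.emb_inter (hc2 ▸ pow_mem hc _) with h1 | h1 <;> rw [h1]
    · rw [map_one, one_pow]
    · rw [sq]; exact S.z_sq
  obtain ⟨k, hk, i, ek⟩ := S.two_elem c hc 2 hc4
  have hkz : Commute k S.z := (S.comm_emb hk n).symm
  have hx : Commute (k * S.gen * k⁻¹) (g * S.z * g⁻¹) := by
    have hxm : k * S.gen * k⁻¹ ∈ S.cen := mul_mem (mul_mem hk S.gen_mem) (inv_mem hk)
    rw [e]
    refine Commute.mul_right (S.comm_emb hxm a).symm ?_
    rw [ek, ← conj_pow]
    exact Commute.self_pow _ _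
  have h1 : Commute (g⁻¹ * k * S.gen * (g⁻¹ * k)⁻¹) S.z := by
    have := hx.map (MulAut.conj g⁻¹).toMonoidHom
    simp only [MulEquiv.coe_toMonoidHom, MulAut.conj_apply, inv_inv] at this
    convert this using 1 <;> group
  obtain ⟨y, hy⟩ := S.core (g⁻¹ * k) h1
  have hy' : g⁻¹ * S.z * g = S.emb y := by
    rw [← hy, mul_assoc g⁻¹ k, hkz.eq]
    group
  refine S.core g ?_
  have h2 : Commute S.gen (g⁻¹ * S.z * g) := hy'.symm ▸ (S.comm_emb S.gen_mem y).symm
  have := h2.map (MulAut.conj g).toMonoidHom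
  simp only [MulEquiv.coe_toMonoidHom, MulAut.conj_apply] at this
  convert this using 1
  group

theorem fused_conj (S : Comp n G) {y : K} (h : S.Fused y) (k : K) : S.Fused (k * y * k⁻¹) := by
  obtain ⟨g, e⟩ := h
  refine ⟨S.emb k * g, ?_⟩
  rw [map_mul, map_mul, ← e, map_inv]
  group

theorem fused_conj_iff (S : Comp n G) {y y' : K} (h : ∃ k : K, k * y * k⁻¹ = y') :
    S.Fused y ↔ S.Fused y' := by
  obtain ⟨k, rfl⟩ := h
  refine ⟨fun h => S.fused_conj h k, fun h => ?_⟩
  have := S.fused_conj h k⁻¹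
  rwa [show k⁻¹ * (k * y * k⁻¹) * k⁻¹⁻¹ = y by group] at this

/-- a fused element centralised by a 2-subgroup of odd index is reached by an element normalising a Sylow
2-subgroup of the centralizer of the central involution -/
theorem exists_normalizing (S : Comp n G) {P : Subgroup K} (hP : IsPGroup 2 ↥P) (hodd : ¬ 2 ∣ P.index) {y : K}
    (hy : ∀ t ∈ P, Commute t y) (hF : S.Fused y) : ∃ f : G, f * S.z * f⁻¹ = S.emb y ∧
      ∀ t ∈ P, ∃ t' ∈ P, ∃ c ∈ Subgroup.zpowers S.gen, f⁻¹ * S.emb t * f = S.emb t' * c := by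
  have : Fact (Nat.Prime 2) := ⟨Nat.prime_two⟩
  set C : Subgroup G := Subgroup.centralizer ({S.z} : Set G) with hC
  have hmemC : ∀ x, x ∈ C ↔ Commute x S.z := fun x => Subgroup.mem_centralizer_singleton_iff
  let F : K × ↥S.cen →* ↥C :=
    MonoidHom.mk' (fun q => ⟨S.emb q.1 * q.2, (hmemC _).2 (Commute.mul_left
      ((show Commute q.1 n from Subgroup.mem_center_iff.1 S.centre.mem q.1).map S.emb)
      (S.comm_emb q.2.2 n).symm)⟩) fun p q => Subtype.ext (by
        show S.emb (p.1 * q.1) * ((p.2 : G) * q.2) = S.emb p.1 * p.2 * (S.emb q.1 * q.2)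
        rw [map_mul]
        calc S.emb p.1 * S.emb q.1 * ((p.2 : G) * q.2) = S.emb p.1 * (S.emb q.1 * (p.2 : G)) * q.2 := by group
          _ = S.emb p.1 * ((p.2 : G) * S.emb q.1) * q.2 := by rw [(S.comm_emb p.2.2 _).eq]
          _ = _ := by group)
  have hF' : Function.Surjective F := by
    rintro ⟨x, hx⟩
    obtain ⟨a, c, hc, rfl⟩ := S.split x ((hmemC x).1 hx)
    exact ⟨(a, ⟨c, hc⟩), rfl⟩
  set R : Subgroup ↥S.cen := (Subgroup.zpowers S.gen).subgroupOf S.cen with hR
  have hR2 : IsPGroup 2 ↥R := by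
    refine IsPGroup.comap_of_injective ?_ S.cen.subtype S.cen.subtype_injective
    rintro ⟨x, i, rfl⟩
    refine ⟨S.rk + 1, Subtype.ext ?_⟩
    show (S.gen ^ i) ^ (2 ^ (S.rk + 1)) = 1
    rw [← zpow_natCast, zpow_comm, zpow_natCast, S.gen_full, one_zpow]
  have hPR : IsPGroup 2 ↥(P.prod R) := by
    rintro ⟨⟨a, b⟩, ha, hb⟩
    obtain ⟨i, hi⟩ := hP ⟨a, ha⟩
    obtain ⟨j, hj⟩ := hR2 ⟨b, hb⟩
    refine ⟨i + j, Subtype.ext (Prod.ext ?_ ?_)⟩
    · show a ^ (2 ^ (i + j)) = 1
      rw [pow_add, pow_mul, show a ^ (2 ^ i) = 1 from congrArg Subtype.val hi, one_pow]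
    · show b ^ (2 ^ (i + j)) = 1
      rw [add_comm, pow_add, pow_mul, show b ^ (2 ^ j) = 1 from congrArg Subtype.val hj, one_pow]
  have hQ : ¬ 2 ∣ ((P.prod R).map F).index := by
    intro h
    have h2 := h.trans (Subgroup.index_map_dvd _ hF')
    rw [Subgroup.index_prod] at h2
    exact (Nat.Prime.dvd_mul Nat.prime_two).1 h2 |>.elim hodd S.gen_odd
  let W : Sylow 2 ↥C := (hPR.map F).toSylow hQ
  have hmemW : ∀ x : ↥C, x ∈ (W : Subgroup ↥C) → ∃ t ∈ P, ∃ c ∈ Subgroup.zpowers S.gen, (x : G) = S.emb t * c := by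
    rintro _ ⟨⟨t, c⟩, ⟨ht, hc⟩, rfl⟩
    exact ⟨t, ht, c, Subgroup.mem_subgroupOf.1 hc, rfl⟩
  obtain ⟨g, hg⟩ := hF
  -- the conjugate of the Sylow subgroup centralises z
  have hcW : ∀ x : ↥C, x ∈ (W : Subgroup ↥C) → g⁻¹ * (x : G) * g ∈ C := by
    intro x hx
    obtain ⟨t, ht, c, hc, e⟩ := hmemW x hx
    have hcy : Commute (x : G) (S.emb y) := by
      rw [e]
      exact Commute.mul_left ((hy t ht).map S.emb)
        (S.comm_emb (Subgroup.zpowers_le.2 S.gen_mem hc) y).symm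
    rw [hmemC]
    have := hcy.map (MulAut.conj g⁻¹).toMonoidHom
    simp only [MulEquiv.coe_toMonoidHom, MulAut.conj_apply, inv_inv] at this
    rwa [show g⁻¹ * S.emb y * g = S.z by rw [← hg]; group] at this
  let Φ : ↥(W : Subgroup ↥C) →* ↥C :=
    MonoidHom.mk' (fun x => ⟨g⁻¹ * ((x : ↥C) : G) * g, hcW x x.2⟩) fun a b => Subtype.ext (by
      show g⁻¹ * (((a : ↥C) : G) * ((b : ↥C) : G)) * g = g⁻¹ * ((a : ↥C) : G) * g * (g⁻¹ * ((b : ↥C) : G) * g)
      group)
  have hrange : IsPGroup 2 ↥Φ.range := by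
    rw [MonoidHom.range_eq_map]
    exact (W.2.to_subgroup ⊤).map Φ
  obtain ⟨W', hW'⟩ := hrange.exists_le_sylow
  obtain ⟨k, hk⟩ := MulAction.exists_smul_eq ↥C W W'
  refine ⟨g * k, ?_, ?_⟩
  · have hkz : Commute (k : G) S.z := (hmemC _).1 k.2
    rw [show g * k * S.z * (g * k)⁻¹ = g * ((k : G) * S.z * (k : G)⁻¹) * g⁻¹ by group, hkz.eq,
      mul_inv_cancel_right, hg]
  · intro t ht
    have hx : F (t, 1) ∈ (W : Subgroup ↥C) := ⟨(t, 1), ⟨ht, one_mem _⟩, rfl⟩
    have h1 : Φ ⟨_, hx⟩ ∈ (W' : Subgroup ↥C) := hW' ⟨_, rfl⟩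
    rw [← hk, Sylow.coe_subgroup_smul, Subgroup.mem_pointwise_smul_iff_inv_smul_mem] at h1
    obtain ⟨t', ht', c, hc, e⟩ := hmemW _ h1
    refine ⟨t', ht', c, hc, ?_⟩
    rw [← e, MulAut.smul_def, ← map_inv, MulAut.conj_apply]
    show _ = (k : G)⁻¹ * (g⁻¹ * (S.emb t * 1) * g) * ((k : G)⁻¹)⁻¹
    group

/-- a component whose central involution is conjugate to no other involution of its centralizer is normal -/
theorem normal_of_isolated (S : Comp n G) (hO : Cfsg.oddCore G = ⊥) {A : Subgroup G}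
    (hnz : ∀ g : G, Commute g S.z → g ∈ Subgroup.normalizer (A : Set G))
    (hiso : ∀ y : K, S.Fused y → y = n) : A.Normal := by
  have hz : Cfsg.IsIsolatedInvolution S.z := by
    have : Fact (Nat.Prime 2) := ⟨Nat.prime_two⟩
    refine ⟨orderOf_eq_prime (by rw [sq, S.z_sq]) S.z_ne, fun g hg => ?_⟩
    obtain ⟨y, hy⟩ := S.conj_in g hg.symm
    rw [hy, hiso y ⟨g, hy⟩]
  obtain ⟨P, hP, hPiso⟩ := Cfsg.Agent.Fusion.isolated_sylow hz
  obtain ⟨N, hN, hodd, hcomm⟩ := Cfsg.Agent.S0215.result P S.z hz.1 hP hPiso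
  have hbot : N = ⊥ := by
    have := hN
    have h := Cfsg.Agent.Fusion.le_pPrimeCore (p := 2) (N := N) hodd.coprime_two_right
    exact le_bot_iff.1 (h.trans hO.le)
  rw [← Subgroup.normalizer_eq_top_iff]
  refine eq_top_iff.2 fun g _ => hnz g ?_
  have h := hcomm g
  rw [hbot, Subgroup.mem_bot] at h
  show g * S.z = S.z * g
  have h2 : S.z * g = g * S.z := by
    calc S.z * g = (S.z * g * S.z⁻¹ * g⁻¹) * (g * S.z) := by group
      _ = g * S.z := by rw [h, one_mul]
  exact h2.symm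

end Comp

end Cfsg.Agent.Spor.DoubleCoverStandard
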